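import Mathlib
import Groth.Agent.FieldExtConn.Conn
import Groth.Agent.TrivSec.Abelian
import Groth.Agent.TrivSec.SmoothGR

/-!
# Biadditive maps of abelian schemes
-/

set_option autoImplicit false
universe u
open CategoryTheory Limits AlgebraicGeometry MonoidalCategory CartesianMonoidalCategory MonObj

namespace Groth.Agent.AbRigid

/-- A scheme over a base with a section and connected fibres has geometrically connected fibres. -/
theorem geometricallyConnected_of_section {X S : Scheme.{u}} (f : X ⟶ S) (σ : S ⟶ X) (hσ : σ ≫ f = 𝟙 S)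
    (h : ∀ s : S, ConnectedSpace ↥(f.fiber s)) : GeometricallyConnected f := by
  rw [GeometricallyConnected.iff_geometricallyConnected_fiber]
  intro s
  haveI := h s
  haveI : GeometricallyConnected (𝟙 (Spec (CommRingCat.of (S.residueField s)))) :=
    ⟨geometrically_iff_of_isClosedUnderIsomorphisms.mpr fun E _ y => by
      show ConnectedSpace (pullback (𝟙 _) y : Scheme.{u})
      exact (asIso (pullback.snd (𝟙 _) y)).hom.homeomorph.connectedSpace_iff.mpr inferInstance⟩
  exact FieldExtConn.geometricallyConnected_of_hom (k := S.residueField s) (f.fiberToSpecResidueField s)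
    (pullback.lift (S.fromSpecResidueField s ≫ σ) (𝟙 _) (by rw [Category.assoc, hσ, Category.comp_id, Category.id_comp]))
    (g := 𝟙 _) (pullback.lift_snd _ _ _)

/-- A map out of a product of abelian schemes vanishing on both axes is trivial. -/
theorem eq_one_of_axes {S : Scheme.{u}} {A B C : Over S} [GrpObj A] [GrpObj B] [GrpObj C]
    [Smooth A.hom] [IsProper A.hom] (hA : ∀ s : S, ConnectedSpace ↥(A.hom.fiber s))
    (hB : ∀ s : S, ConnectedSpace ↥(B.hom.fiber s)) [IsSeparated C.hom] (g : A ⊗ B ⟶ C)
    (h1 : lift (𝟙 A) (toUnit A ≫ η[B]) ≫ g = 1) (h2 : lift (toUnit B ≫ η[A]) (𝟙 B) ≫ g = 1) : g = 1 := by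
  haveI : GeometricallyConnected A.hom := geometricallyConnected_of_section A.hom η[A].left (Over.w η[A]) hA
  haveI : GeometricallyConnected B.hom := geometricallyConnected_of_section B.hom η[B].left (Over.w η[B]) hB
  haveI : GeometricallyReduced A.hom := TrivSec.geometricallyReduced_of_smooth A.hom
  have h := TrivSec.eq_mul η[A] η[B] g (by
    have := congr(η[A] ≫ $h1)
    rw [← Category.assoc, comp_lift, Category.comp_id, ← Category.assoc, toUnit_unique (η[A] ≫ toUnit A) (toUnit _),
      toUnit_unit, Category.id_comp, MonObj.comp_one] at this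
    rw [this, one_eq_one])
  rw [h, h1, h2, MonObj.comp_one, MonObj.comp_one, _root_.mul_one]

end Groth.Agent.AbRigid
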